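import Groth.Agent.FibreDim.Local

/-!
# Quasi-finite charts into affine spaces over the base
-/

set_option autoImplicit false

universe u

open CategoryTheory AlgebraicGeometry TopologicalSpace Topology

namespace Groth.Agent.FibreDim

variable {A B : Type u} [CommRing A] [CommRing B] [Algebra A B] {n : ℕ}

/-- The map induced on the quotient by a prime. -/
noncomputable def quotMap (φ : MvPolynomial (Fin n) A →ₐ[A] B) (q₀ : Ideal B) :
    MvPolynomial (Fin n) (A ⧸ q₀.under A) →ₐ[A ⧸ q₀.under A] B ⧸ q₀ :=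
  MvPolynomial.aeval fun i => Ideal.Quotient.mk q₀ (φ (MvPolynomial.X i))

theorem quotMap_comp (φ : MvPolynomial (Fin n) A →ₐ[A] B) (q₀ : Ideal B) :
    (quotMap φ q₀).toRingHom.comp (MvPolynomial.map (Ideal.Quotient.mk (q₀.under A))) =
      (Ideal.Quotient.mk q₀).comp φ.toRingHom := by
  refine MvPolynomial.ringHom_ext (fun a => ?_) (fun i => ?_)
  · simp only [RingHom.comp_apply, MvPolynomial.map_C, AlgHom.toRingHom_eq_coe, RingHom.coe_coe, quotMap,
      MvPolynomial.aeval_C]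
    rw [← MvPolynomial.algebraMap_eq, φ.commutes]
    rfl
  · simp [quotMap]

/-- Quasi-finiteness passes to the quotient by a smaller prime. -/
theorem isQFAt_quotMap [Algebra.FiniteType A B] (φ : MvPolynomial (Fin n) A →ₐ[A] B) (q₀ q : Ideal B)
    [q₀.IsPrime] [q.IsPrime] (hle : q₀ ≤ q) (h : IsQFAt φ q) [(q.map (Ideal.Quotient.mk q₀)).IsPrime] :
    IsQFAt (quotMap φ q₀) (q.map (Ideal.Quotient.mk q₀)) := by
  letI : Algebra (MvPolynomial (Fin n) A) B := φ.toRingHom.toAlgebra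
  letI : Algebra (MvPolynomial (Fin n) (A ⧸ q₀.under A)) (B ⧸ q₀) := (quotMap φ q₀).toRingHom.toAlgebra
  letI : Algebra (MvPolynomial (Fin n) A) (MvPolynomial (Fin n) (A ⧸ q₀.under A)) :=
    (MvPolynomial.map (Ideal.Quotient.mk (q₀.under A))).toAlgebra
  haveI : IsScalarTower (MvPolynomial (Fin n) A) (MvPolynomial (Fin n) (A ⧸ q₀.under A)) (B ⧸ q₀) :=
    IsScalarTower.of_algebraMap_eq' (quotMap_comp φ q₀).symm
  haveI : Algebra.QuasiFiniteAt (MvPolynomial (Fin n) A) q := h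
  have hqq : Ideal.comap (Ideal.Quotient.mk q₀) (q.map (Ideal.Quotient.mk q₀)) = q := by
    rw [Ideal.comap_map_of_surjective _ Ideal.Quotient.mk_surjective, ← RingHom.ker_eq_comap_bot,
      Ideal.mk_ker, sup_eq_left.2 hle]
  let π : B →ₐ[MvPolynomial (Fin n) A] B ⧸ q₀ := ⟨Ideal.Quotient.mk q₀, fun _ => rfl⟩
  haveI : Algebra.QuasiFiniteAt (MvPolynomial (Fin n) A) (q.map (Ideal.Quotient.mk q₀)) :=
    Algebra.QuasiFiniteAt.of_surjectiveOnStalks q π
      (RingHom.surjectiveOnStalks_of_surjective Ideal.Quotient.mk_surjective) _ hqq.symm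
  haveI : IsScalarTower (MvPolynomial (Fin n) A) (MvPolynomial (Fin n) (A ⧸ q₀.under A))
      (Localization.AtPrime (q.map (Ideal.Quotient.mk q₀))) := IsScalarTower.of_algebraMap_eq fun r => by
    rw [IsScalarTower.algebraMap_apply (MvPolynomial (Fin n) A) (B ⧸ q₀),
      IsScalarTower.algebraMap_apply (MvPolynomial (Fin n) A) (MvPolynomial (Fin n) (A ⧸ q₀.under A)) (B ⧸ q₀),
      ← IsScalarTower.algebraMap_apply (MvPolynomial (Fin n) (A ⧸ q₀.under A)) (B ⧸ q₀)]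
  show Algebra.QuasiFinite (MvPolynomial (Fin n) (A ⧸ q₀.under A)) _
  exact Algebra.QuasiFinite.of_restrictScalars (MvPolynomial (Fin n) A) _ _

theorem isQFAt_of_le (φ : MvPolynomial (Fin n) A →ₐ[A] B) (q₀ q : Ideal B) [q₀.IsPrime] [q.IsPrime]
    (hle : q₀ ≤ q) (h : IsQFAt φ q) : IsQFAt φ q₀ := by
  letI : Algebra (MvPolynomial (Fin n) A) B := φ.toRingHom.toAlgebra
  haveI : Algebra.QuasiFiniteAt (MvPolynomial (Fin n) A) q := h
  exact Algebra.QuasiFiniteAt.of_le hle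

/-- Over a prime where the map is quasi-finite the transcendence degree is at most `n`, with
equality exactly when the image is the generic point of the fibre of affine space. -/
theorem trdeg_quotient [Algebra.FiniteType A B] (φ : MvPolynomial (Fin n) A →ₐ[A] B) (q₀ : Ideal B)
    [q₀.IsPrime] (h : IsQFAt φ q₀) :
    Algebra.trdeg (A ⧸ q₀.under A) (B ⧸ q₀) ≤ n ∧
      (Algebra.trdeg (A ⧸ q₀.under A) (B ⧸ q₀) = n ↔ Function.Injective (quotMap φ q₀)) := by
  haveI : (q₀.map (Ideal.Quotient.mk q₀)).IsPrime := by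
    rw [Ideal.map_quotient_self]; exact Ideal.isPrime_bot
  haveI : Algebra.FiniteType A (B ⧸ q₀) :=
    Algebra.FiniteType.of_surjective (Ideal.Quotient.mkₐ A q₀) Ideal.Quotient.mk_surjective
  haveI : Algebra.FiniteType (A ⧸ q₀.under A) (B ⧸ q₀) := Algebra.FiniteType.of_restrictScalars_finiteType A _ _
  haveI : FaithfulSMul (A ⧸ q₀.under A) (B ⧸ q₀) :=
    (faithfulSMul_iff_algebraMap_injective _ _).2 (Ideal.quotientMap_injective' le_rfl)
  exact trdeg_of_isQFAt _ _ (isQFAt_quotMap φ q₀ q₀ le_rfl h)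

/-- Injectivity on the quotient in terms of the inverse image. -/
theorem injective_quotMap_iff (φ : MvPolynomial (Fin n) A →ₐ[A] B) (q₀ : Ideal B) :
    Function.Injective (quotMap φ q₀) ↔
      q₀.comap φ.toRingHom = RingHom.ker (MvPolynomial.map (σ := Fin n) (Ideal.Quotient.mk (q₀.under A))) := by
  have hs : Function.Surjective (MvPolynomial.map (σ := Fin n) (Ideal.Quotient.mk (q₀.under A))) :=
    MvPolynomial.map_surjective _ Ideal.Quotient.mk_surjective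
  have e : q₀.comap φ.toRingHom =
      (RingHom.ker (quotMap φ q₀).toRingHom).comap (MvPolynomial.map (Ideal.Quotient.mk (q₀.under A))) := by
    rw [RingHom.comap_ker, quotMap_comp, ← RingHom.comap_ker, Ideal.mk_ker]
  rw [e]
  constructor
  · intro hi
    rw [(RingHom.injective_iff_ker_eq_bot (quotMap φ q₀).toRingHom).1 hi, ← RingHom.ker_eq_comap_bot]
  · intro h
    refine (RingHom.injective_iff_ker_eq_bot (quotMap φ q₀).toRingHom).2 ?_
    refine Ideal.comap_injective_of_surjective _ hs ?_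
    rw [h, ← RingHom.ker_eq_comap_bot]

variable {X Y : Scheme.{u}} (f : X ⟶ Y) [LocallyOfFiniteType f]

/-- Charts: near every point the morphism maps quasi-finitely to affine space of dimension the
fibre dimension at that point. -/
theorem exists_chart (x : X) (U₀ : Y.Opens) (hyU : f.base x ∈ U₀) :
    ∃ (U : Y.Opens) (_ : IsAffineOpen U) (V : X.Opens) (hV : IsAffineOpen V) (hVU : V ≤ f ⁻¹ᵁ U)
      (hxV : x ∈ V),
      (U : Set Y) ⊆ U₀ ∧
      letI := (f.appLE U V hVU).hom.toAlgebra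
      ∃ (n : ℕ) (φ : MvPolynomial (Fin n) Γ(Y, U) →ₐ[Γ(Y, U)] Γ(X, V)),
        FlatMor.fibreDimAt f x = n ∧ IsQFAt φ (hV.primeIdealOf ⟨x, hxV⟩).asIdeal := by
  obtain ⟨N, hN, ⟨w₀, hw₀, hw₀x, hw₀N⟩, -⟩ := exists_fibreDimAt_eq f x
  obtain ⟨O, hO, hxO, hOdim⟩ :=
    exists_localDim (⟨x, trivial, rfl⟩ : ↥((Set.univ : Set X) ∩ f.base ⁻¹' {f.base x}))
  rw [← fibreDimAt_eq, hN] at hOdim
  obtain ⟨O', hO', rfl⟩ := isOpen_induced_iff.1 hO
  rw [← dim_image IsEmbedding.subtypeVal, Subtype.image_preimage_coe] at hOdim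
  obtain ⟨_, ⟨U, hU, rfl⟩, hxU, hUU₀⟩ := Y.isBasis_affineOpens.exists_subset_of_mem_open hyU U₀.2
  obtain ⟨_, ⟨V, hV, rfl⟩, hxV, hV'⟩ :=
    X.isBasis_affineOpens.exists_subset_of_mem_open (show x ∈ O' ∩ (f ⁻¹ᵁ U : Set X) from ⟨hxO, hxU⟩)
      (hO'.inter (f ⁻¹ᵁ U).2)
  have hVU : V ≤ f ⁻¹ᵁ U := fun z hz => (hV' hz).2
  refine ⟨U, hU, V, hV, hVU, hxV, hUU₀, ?_⟩
  letI := (f.appLE U V hVU).hom.toAlgebra
  haveI : Algebra.FiniteType Γ(Y, U) Γ(X, V) :=
    RingHom.finiteType_algebraMap.1 (f.finiteType_appLE hU hV hVU)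
  let q := hV.primeIdealOf ⟨x, hxV⟩
  let p : PrimeSpectrum Γ(Y, U) := PrimeSpectrum.comap (algebraMap Γ(Y, U) Γ(X, V)) q
  haveI : Nontrivial (p.asIdeal.Fiber Γ(X, V)) := by
    rw [← PrimeSpectrum.nonempty_iff_nontrivial]
    exact ⟨PrimeSpectrum.preimageHomeomorphFiber _ _ p ⟨q, rfl⟩⟩
  obtain ⟨n, φ, hn, hφ⟩ := exists_isQFAt (B := Γ(X, V)) p.asIdeal
  refine ⟨n, φ, ?_, hφ q.asIdeal rfl⟩
  rw [← hn, ← PrimeSpectrum.topologicalKrullDim_eq_ringKrullDim,
    ← dim_homeo (PrimeSpectrum.preimageHomeomorphFiber _ _ p)]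
  have himg : hV.fromSpec.base '' (PrimeSpectrum.comap (algebraMap Γ(Y, U) Γ(X, V)) ⁻¹' {p}) =
      (Set.univ : Set X) ∩ f.base ⁻¹' {f.base x} ∩ (V : Set X) := by
    ext z
    constructor
    · rintro ⟨t, ht, rfl⟩
      have htV : hV.fromSpec t ∈ V := hV.range_fromSpec.le ⟨t, rfl⟩
      refine ⟨⟨trivial, (primeIdeal_comap f hU hV hVU x hxV _ htV).2 ?_⟩, htV⟩
      rw [show hV.primeIdealOf ⟨hV.fromSpec t, htV⟩ = t from
        hV.fromSpec.isOpenEmbedding.injective (hV.fromSpec_primeIdealOf _)]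
      exact congrArg PrimeSpectrum.asIdeal ht
    · rintro ⟨⟨-, hzy⟩, hzV⟩
      exact ⟨hV.primeIdealOf ⟨z, hzV⟩, PrimeSpectrum.ext ((primeIdeal_comap f hU hV hVU x hxV z hzV).1 hzy),
        hV.fromSpec_primeIdealOf ⟨z, hzV⟩⟩
  refine Eq.trans ?_ (dim_image hV.fromSpec.isOpenEmbedding.isEmbedding _)
  erw [himg]
  rw [hN]
  refine le_antisymm ?_ ((dim_mono ?_).trans hOdim.le)
  · rw [← hw₀N]
    exact fdim_le_dim_inter f isClosed_univ V.2 _ w₀ trivial (hw₀x.mem_open V.2 hxV) hw₀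
  · exact fun z hz => ⟨hz.1, (hV' hz.2).1⟩

/-- Fibre dimensions in a chart. -/
theorem fdim_chart {U : Y.Opens} (hU : IsAffineOpen U) {V : X.Opens} (hV : IsAffineOpen V)
    (hVU : V ≤ f ⁻¹ᵁ U) (w : X) (hwV : w ∈ V) :
    letI := (f.appLE U V hVU).hom.toAlgebra
    ∀ {n : ℕ} (φ : MvPolynomial (Fin n) Γ(Y, U) →ₐ[Γ(Y, U)] Γ(X, V)),
      IsQFAt φ (hV.primeIdealOf ⟨w, hwV⟩).asIdeal →
      fdim f w ≤ n ∧ (fdim f w = n ↔ Function.Injective (quotMap φ (hV.primeIdealOf ⟨w, hwV⟩).asIdeal)) := by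
  letI := (f.appLE U V hVU).hom.toAlgebra
  haveI : Algebra.FiniteType Γ(Y, U) Γ(X, V) :=
    RingHom.finiteType_algebraMap.1 (f.finiteType_appLE hU hV hVU)
  intro n φ hφ
  obtain ⟨m, hm, hdim⟩ := exists_dim_chart f hU hV hVU w hwV
  obtain ⟨k, hk, hkO⟩ := exists_fdim f w
  have hkm : k = m := by exact_mod_cast (hkO V V.2 hwV).symm.trans hdim
  subst hkm
  obtain ⟨h1, h2⟩ := trdeg_quotient φ _ hφ
  rw [hm] at h1 h2
  refine ⟨by rw [hk]; exact_mod_cast h1, ?_⟩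
  rw [hk, ← h2]
  exact ⟨fun h => by exact_mod_cast h, fun h => by exact_mod_cast h⟩

/-- Upper semicontinuity along generalisations. -/
theorem fdim_le_fibreDimAt {w x : X} (h : w ⤳ x) : fdim f w ≤ FlatMor.fibreDimAt f x := by
  obtain ⟨U, hU, V, hV, hVU, hxV, -, n, φ, hn, hφ⟩ := exists_chart f x ⊤ trivial
  have hwV : w ∈ V := h.mem_open V.2 hxV
  letI := (f.appLE U V hVU).hom.toAlgebra
  have hle : (hV.primeIdealOf ⟨w, hwV⟩).asIdeal ≤ (hV.primeIdealOf ⟨x, hxV⟩).asIdeal := by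
    refine (PrimeSpectrum.le_iff_specializes _ _).2 (hV.fromSpec.isOpenEmbedding.toIsInducing.specializes_iff.1 ?_)
    rw [hV.fromSpec_primeIdealOf, hV.fromSpec_primeIdealOf]; exact h
  rw [hn]
  exact (fdim_chart f hU hV hVU w hwV φ (isQFAt_of_le φ _ _ hle hφ)).1

end Groth.Agent.FibreDim
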