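import Groth.Prelude.Def_Flat
import Mathlib

/-!
# Topological lemmas on Krull dimension and local dimension
-/

set_option autoImplicit false

universe u v

open TopologicalSpace Topology Order

namespace Groth.Agent.FibreDim

variable {T : Type u} [TopologicalSpace T]

theorem dim_mono {s t : Set T} (h : s ⊆ t) : topologicalKrullDim s ≤ topologicalKrullDim t :=
  (IsEmbedding.inclusion h).isInducing.topologicalKrullDim_le

theorem dim_homeo {T' : Type v} [TopologicalSpace T'] (e : T ≃ₜ T') :
    topologicalKrullDim T = topologicalKrullDim T' :=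
  IsHomeomorph.topologicalKrullDim_eq e e.isHomeomorph

theorem dim_image {T' : Type v} [TopologicalSpace T'] {g : T → T'} (hg : IsEmbedding g) (s : Set T) :
    topologicalKrullDim (g '' s) = topologicalKrullDim s :=
  (dim_homeo (hg.homeomorphImage s)).symm

/-- The dimension is computed on the members of an open cover. -/
theorem dim_le_of_cover {c : WithBot ℕ∞}
    (h : ∀ x : T, ∃ O : Set T, IsOpen O ∧ x ∈ O ∧ topologicalKrullDim O ≤ c) :
    topologicalKrullDim T ≤ c := by
  refine iSup_le fun l => ?_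
  obtain ⟨x, hx⟩ := l.head.isIrreducible.nonempty
  obtain ⟨O, hO, hxO, hOc⟩ := h x
  have hmem : ∀ i, x ∈ (l i : Set T) := fun i => l.monotone (Fin.zero_le i) hx
  let G : Fin (l.length + 1) → IrreducibleCloseds O := fun i =>
    ⟨Subtype.val ⁻¹' (l i : Set T),
      (l i).isIrreducible.preimage hO.isOpenEmbedding_subtypeVal ⟨x, hmem i, ⟨x, hxO⟩, rfl⟩,
      (l i).isClosed.preimage continuous_subtype_val⟩
  have hG : StrictMono G := by
    intro i j hij
    refine lt_of_le_of_ne (fun _ h => (l.strictMono hij).le h) fun he => ?_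
    refine (l.strictMono hij).not_ge fun z hz => ?_
    have hd := subset_closure_inter_of_isPreirreducible_of_isOpen
      (l j).isIrreducible.2 hO ⟨x, hmem j, hxO⟩ hz
    refine (closure_minimal ?_ (l i).isClosed) hd
    rintro w ⟨hwj, hwO⟩
    exact he.ge (show (⟨w, hwO⟩ : O) ∈ (G j : Set O) from hwj)
  exact le_trans (le_iSup_of_le (⟨l.length, G, fun i => hG (Fin.castSucc_lt_succ (i := i))⟩ :
    LTSeries (IrreducibleCloseds O)) le_rfl) hOc

/-- The dimension is computed on the closures of points of a space with generic points. -/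
theorem dim_le_of_points [QuasiSober T] {c : WithBot ℕ∞}
    (h : ∀ t : T, topologicalKrullDim (closure ({t} : Set T)) ≤ c) : topologicalKrullDim T ≤ c := by
  refine iSup_le fun l => ?_
  obtain ⟨t, ht⟩ := QuasiSober.sober l.last.isIrreducible l.last.isClosed
  refine le_trans ?_ (h t)
  have hsub : ∀ i, (l i : Set T) ⊆ closure {t} := fun i z hz => ht.symm.le (l.monotone (Fin.le_last i) hz)
  let G : Fin (l.length + 1) → IrreducibleCloseds (closure ({t} : Set T)) := fun i =>
    ⟨Subtype.val ⁻¹' (l i : Set T), by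
      refine ⟨?_, ?_⟩
      · obtain ⟨a, ha⟩ := (l i).isIrreducible.nonempty
        exact ⟨⟨a, hsub i ha⟩, ha⟩
      · intro u v hu hv hnu hnv
        obtain ⟨U, hU, rfl⟩ := isOpen_induced_iff.1 hu
        obtain ⟨V, hV, rfl⟩ := isOpen_induced_iff.1 hv
        obtain ⟨a, ha₁, ha₂⟩ := hnu
        obtain ⟨b, hb₁, hb₂⟩ := hnv
        obtain ⟨z, hz₁, hz₂, hz₃⟩ := (l i).isIrreducible.2 U V hU hV ⟨a, ha₁, ha₂⟩ ⟨b, hb₁, hb₂⟩
        exact ⟨⟨z, hsub i hz₁⟩, hz₁, hz₂, hz₃⟩,
      (l i).isClosed.preimage continuous_subtype_val⟩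
  have hG : StrictMono G := by
    intro i j hij
    refine lt_of_le_of_ne (fun _ h => (l.strictMono hij).le h) fun he => ?_
    refine (l.strictMono hij).not_ge fun z hz => ?_
    exact he.ge (show (⟨z, hsub j hz⟩ : closure ({t} : Set T)) ∈
      (G j : Set (closure ({t} : Set T))) from hz)
  exact le_iSup_of_le (⟨l.length, G, fun i => hG (Fin.castSucc_lt_succ (i := i))⟩ :
    LTSeries (IrreducibleCloseds (closure ({t} : Set T)))) le_rfl

/-- The closure of a point inside a subspace. -/
theorem closure_singleton_subtype {s : Set T} (t : s) :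
    Subtype.val '' closure ({t} : Set s) = closure {t.1} ∩ s := by
  rw [IsEmbedding.subtypeVal.closure_eq_preimage_closure_image, Set.image_preimage_eq_inter_range,
    Set.image_singleton, Subtype.range_val]

/-- Locally closed subspaces of spaces with generic points have generic points. -/
theorem quasiSober_inter [QuasiSober T] {Z O : Set T} (hZ : IsClosed Z) (hO : IsOpen O) :
    QuasiSober ↥(Z ∩ O) := by
  haveI : QuasiSober Z := hZ.isClosedEmbedding_subtypeVal.quasiSober
  haveI : QuasiSober ↥((Subtype.val : Z → T) ⁻¹' O) :=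
    (hO.preimage continuous_subtype_val).isOpenEmbedding_subtypeVal.quasiSober
  let e : ↥((Subtype.val : Z → T) ⁻¹' O) ≃ₜ ↥(Z ∩ O) :=
    { toFun := fun a => ⟨a.1.1, a.1.2, a.2⟩
      invFun := fun a => ⟨⟨a.1, a.2.1⟩, a.2.2⟩
      left_inv := fun _ => rfl
      right_inv := fun _ => rfl
      continuous_toFun := by fun_prop
      continuous_invFun := by fun_prop }
  exact e.symm.isClosedEmbedding.quasiSober

theorem localDim_le {x : T} {O : Set T} (hO : IsOpen O) (hx : x ∈ O) :
    FlatMor.localDim T x ≤ topologicalKrullDim O :=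
  iInf_le_of_le ⟨⟨O, hO⟩, hx⟩ le_rfl

theorem le_localDim {x : T} {c : WithBot ℕ∞}
    (h : ∀ O : Set T, IsOpen O → x ∈ O → c ≤ topologicalKrullDim O) : c ≤ FlatMor.localDim T x :=
  le_iInf fun O => h _ O.1.2 O.2

/-- Some neighbourhood realises the local dimension. -/
theorem exists_localDim (x : T) :
    ∃ O : Set T, IsOpen O ∧ x ∈ O ∧ topologicalKrullDim O = FlatMor.localDim T x := by
  haveI : Nonempty {U : Opens T // x ∈ U} := ⟨⟨⊤, trivial⟩⟩
  obtain ⟨U, hU⟩ := ciInf_mem (fun U : {U : Opens T // x ∈ U} => topologicalKrullDim (U.1 : Set T))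
  exact ⟨U.1, U.1.2, U.2, hU⟩

theorem localDim_homeo {T' : Type v} [TopologicalSpace T'] (e : T ≃ₜ T') (x : T) :
    FlatMor.localDim T x = FlatMor.localDim T' (e x) := by
  refine le_antisymm (le_localDim fun O hO hx => ?_) (le_localDim fun O hO hx => ?_)
  · refine (localDim_le (hO.preimage e.continuous) hx).trans_eq ?_
    rw [← dim_image e.isEmbedding, Set.image_preimage_eq _ e.surjective]
  · refine (localDim_le (e.isOpen_image.2 hO) ⟨x, hx, rfl⟩).trans_eq ?_
    exact dim_image e.isEmbedding O

end Groth.Agent.FibreDim
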