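import Groth.Agent.FibreDim.Tau

/-!
# Local dimension of fibres
-/

set_option autoImplicit false

universe u

open CategoryTheory AlgebraicGeometry TopologicalSpace Topology

namespace Groth.Agent.FibreDim

variable {X Y : Scheme.{u}} (f : X ⟶ Y)

theorem quasiSober_fibre (y : Y) : QuasiSober ↥(f.base ⁻¹' {y}) :=
  (f.fiberHomeo y).symm.isClosedEmbedding.quasiSober

/-- A bound on a locally closed part of a fibre from bounds on its points. -/
theorem dim_inter_le {Z O : Set X} (hZ : IsClosed Z) (hO : IsOpen O) (y : Y) {c : WithBot ℕ∞}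
    (h : ∀ w ∈ Z, w ∈ O → f.base w = y → fdim f w ≤ c) :
    topologicalKrullDim ↥(Z ∩ f.base ⁻¹' {y} ∩ O) ≤ c := by
  haveI := quasiSober_fibre f y
  haveI : QuasiSober ↥((Subtype.val ⁻¹' Z : Set (f.base ⁻¹' {y})) ∩ Subtype.val ⁻¹' O) :=
    quasiSober_inter (hZ.preimage continuous_subtype_val) (hO.preimage continuous_subtype_val)
  have hemb : IsEmbedding fun t : ↥((Subtype.val ⁻¹' Z : Set (f.base ⁻¹' {y})) ∩ Subtype.val ⁻¹' O) => t.1.1 :=
    IsEmbedding.subtypeVal.comp IsEmbedding.subtypeVal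
  have hrange : Z ∩ f.base ⁻¹' {y} ∩ O = (fun t : ↥((Subtype.val ⁻¹' Z : Set (f.base ⁻¹' {y})) ∩ Subtype.val ⁻¹' O) => t.1.1) '' Set.univ := by
    ext z
    constructor
    · rintro ⟨⟨hzZ, hzy⟩, hzO⟩; exact ⟨⟨⟨z, hzy⟩, hzZ, hzO⟩, trivial, rfl⟩
    · rintro ⟨t, -, rfl⟩; exact ⟨⟨t.2.1, t.1.2⟩, t.2.2⟩
  rw [hrange, dim_image hemb, dim_homeo (Homeomorph.Set.univ _)]
  refine dim_le_of_points fun t => ?_
  rw [← dim_image hemb, hemb.closure_eq_preimage_closure_image, Set.image_singleton]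
  refine (dim_mono ?_).trans (h t.1.1 t.2.1 t.2.2 t.1.2)
  rintro _ ⟨a, ha, rfl⟩
  refine ⟨ha, ?_⟩
  show f.base a.1.1 = f.base t.1.1
  exact (a.1.2 : f.base a.1.1 = y).trans (t.1.2 : f.base t.1.1 = y).symm

/-- The points of a locally closed part of a fibre bound its dimension below. -/
theorem fdim_le_dim_inter [LocallyOfFiniteType f] {Z O : Set X} (hZ : IsClosed Z) (hO : IsOpen O) (y : Y)
    (w : X) (hwZ : w ∈ Z) (hwO : w ∈ O) (hw : f.base w = y) :
    fdim f w ≤ topologicalKrullDim ↥(Z ∩ f.base ⁻¹' {y} ∩ O) := by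
  obtain ⟨n, hn, hnO⟩ := exists_fdim f w
  rw [hn, ← hnO O hO hwO, hw]
  exact dim_mono fun z hz => ⟨⟨closure_minimal (Set.singleton_subset_iff.2 hwZ) hZ hz.1.1, hz.1.2⟩, hz.2⟩

/-- The local dimension of a closed part of a fibre is attained at a generalisation. -/
theorem exists_localDim_eq [LocallyOfFiniteType f] {Z : Set X} (hZ : IsClosed Z) (y : Y) (x : X)
    (hx : x ∈ Z ∩ f.base ⁻¹' {y}) :
    ∃ n : ℕ, FlatMor.localDim ↥(Z ∩ f.base ⁻¹' {y}) ⟨x, hx⟩ = n ∧
      (∃ w ∈ Z, f.base w = y ∧ w ⤳ x ∧ fdim f w = n) ∧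
      ∀ w ∈ Z, f.base w = y → w ⤳ x → fdim f w ≤ n := by
  classical
  obtain ⟨_, ⟨U, hU, rfl⟩, hyU, -⟩ := Y.isBasis_affineOpens.exists_subset_of_mem_open (Set.mem_univ y) isOpen_univ
  obtain ⟨_, ⟨V, hV, rfl⟩, hxV, hVU : V ≤ f ⁻¹ᵁ U⟩ :=
    X.isBasis_affineOpens.exists_subset_of_mem_open (show x ∈ f ⁻¹ᵁ U by change f.base x ∈ U; rw [show f.base x = y from hx.2]; exact hyU) (f ⁻¹ᵁ U).2
  -- the part of the fibre in the chart is Noetherian
  let S : Set X := Z ∩ f.base ⁻¹' {y} ∩ V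
  letI := (f.appLE U V hVU).hom.toAlgebra
  haveI : Algebra.FiniteType Γ(Y, U) Γ(X, V) :=
    RingHom.finiteType_algebraMap.1 (f.finiteType_appLE hU hV hVU)
  let q := hV.primeIdealOf ⟨x, hxV⟩
  let p : PrimeSpectrum Γ(Y, U) := PrimeSpectrum.comap (algebraMap Γ(Y, U) Γ(X, V)) q
  haveI : IsNoetherianRing (p.asIdeal.Fiber Γ(X, V)) := Algebra.FiniteType.isNoetherianRing p.asIdeal.ResidueField _
  have hmemfib : ∀ z : S, hV.primeIdealOf ⟨z.1, z.2.2⟩ ∈
      PrimeSpectrum.comap (algebraMap Γ(Y, U) Γ(X, V)) ⁻¹' {p} := fun z =>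
    PrimeSpectrum.ext ((primeIdeal_comap f hU hV hVU x hxV z.1 z.2.2).1
      ((show f.base z.1 = y from z.2.1.2).trans (show f.base x = y from hx.2).symm))
  let g : S → PrimeSpectrum (p.asIdeal.Fiber Γ(X, V)) := fun z =>
    PrimeSpectrum.preimageHomeomorphFiber _ _ p ⟨_, hmemfib z⟩
  have hg : IsInducing g := by
    refine (PrimeSpectrum.preimageHomeomorphFiber _ _ p).isInducing.comp ?_
    refine IsInducing.codRestrict ?_ hmemfib
    refine (hV.fromSpec.isOpenEmbedding.toIsInducing.of_comp_iff).1 ?_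
    convert (IsInducing.subtypeVal : IsInducing (Subtype.val : S → X)) using 1
    funext z
    exact hV.fromSpec_primeIdealOf ⟨z.1, z.2.2⟩
  haveI : NoetherianSpace S := hg.noetherianSpace
  haveI : QuasiSober S := by
    haveI := quasiSober_fibre f y
    haveI : QuasiSober ↥((Subtype.val ⁻¹' Z : Set (f.base ⁻¹' {y})) ∩ Subtype.val ⁻¹' (V : Set X)) :=
      quasiSober_inter (hZ.preimage continuous_subtype_val) (V.2.preimage continuous_subtype_val)
    let e : ↥((Subtype.val ⁻¹' Z : Set (f.base ⁻¹' {y})) ∩ Subtype.val ⁻¹' (V : Set X)) ≃ₜ S :=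
      { toFun := fun a => ⟨a.1.1, ⟨a.2.1, a.1.2⟩, a.2.2⟩
        invFun := fun a => ⟨⟨a.1, a.2.1.2⟩, a.2.1.1, a.2.2⟩
        left_inv := fun _ => rfl
        right_inv := fun _ => rfl
        continuous_toFun := by fun_prop
        continuous_invFun := by fun_prop }
    exact e.symm.isClosedEmbedding.quasiSober
  let x' : S := ⟨x, hx, hxV⟩
  have hfin : (irreducibleComponents S).Finite := NoetherianSpace.finite_irreducibleComponents
  let bad : Set S := ⋃ C ∈ {C ∈ irreducibleComponents S | x' ∉ C}, C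
  have hbad : IsClosed bad :=
    (hfin.subset fun C hC => hC.1).isClosed_biUnion fun C hC => isClosed_of_mem_irreducibleComponents C hC.1
  obtain ⟨O, hO, hO'⟩ := isOpen_induced_iff.1 hbad.isOpen_compl
  -- every point near `x` has a generalisation over `x`
  have key : ∀ z ∈ Z, z ∈ O ∩ (V : Set X) → f.base z = y → ∃ m ∈ Z, f.base m = y ∧ m ⤳ x ∧ m ⤳ z := by
    intro z hzZ hz hzy
    let z' : S := ⟨z, ⟨hzZ, hzy⟩, hz.2⟩
    have hgood : z' ∉ bad := hO'.le (show z' ∈ Subtype.val ⁻¹' O from hz.1)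
    obtain ⟨m, hm⟩ := QuasiSober.sober (isIrreducible_irreducibleComponent (x := z'))
      isClosed_irreducibleComponent
    have hxC : x' ∈ irreducibleComponent z' := by_contra fun h => hgood
      (Set.mem_biUnion ⟨irreducibleComponent_mem_irreducibleComponents z', h⟩ mem_irreducibleComponent)
    exact ⟨m.1, m.2.1.1, m.2.1.2, (hm.specializes hxC).map continuous_subtype_val,
      (hm.specializes mem_irreducibleComponent).map continuous_subtype_val⟩
  choose fn hfn using fun w => exists_fdim f w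
  -- the finitely many generic points
  have hgen : ∀ C : irreducibleComponents S, ∃ m : S, IsGenericPoint m (C : Set S) := fun C =>
    QuasiSober.sober C.2.1 (isClosed_of_mem_irreducibleComponents _ C.2)
  choose m hm using hgen
  haveI : Fintype (irreducibleComponents S) := hfin.fintype
  let good : Finset (irreducibleComponents S) := Finset.univ.filter fun C => x' ∈ (C : Set S)
  have hgood : good.Nonempty := ⟨⟨_, irreducibleComponent_mem_irreducibleComponents x'⟩,
    Finset.mem_filter.2 ⟨Finset.mem_univ _, mem_irreducibleComponent⟩⟩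
  obtain ⟨C, hC, hmax⟩ := good.exists_max_image (fun C => fn (m C).1) hgood
  have hall : ∀ w ∈ Z, f.base w = y → w ⤳ x → fdim f w ≤ fn (m C).1 := by
    intro w hwZ hwy hwx
    have hwV : w ∈ V := hwx.mem_open V.2 hxV
    let w' : S := ⟨w, ⟨hwZ, hwy⟩, hwV⟩
    let D : irreducibleComponents S := ⟨_, irreducibleComponent_mem_irreducibleComponents w'⟩
    have hxD : x' ∈ (D : Set S) := by
      have hs : w' ⤳ x' := IsInducing.subtypeVal.specializes_iff.1 hwx
      exact hs.mem_closed isClosed_irreducibleComponent mem_irreducibleComponent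
    refine (fdim_mono f (((hm D).specializes mem_irreducibleComponent).map continuous_subtype_val)
      (((m D).2.1.2 : f.base (m D).1 = y).trans hwy.symm)).trans ?_
    rw [(hfn _).1]
    exact_mod_cast hmax D (Finset.mem_filter.2 ⟨Finset.mem_univ _, hxD⟩)
  have hmx : (m C).1 ⤳ x := ((hm C).specializes (Finset.mem_filter.1 hC).2).map continuous_subtype_val
  refine ⟨fn (m C).1, le_antisymm ?_ ?_, ⟨_, (m C).2.1.1, (m C).2.1.2, hmx, (hfn _).1⟩, hall⟩
  · refine (localDim_le (O := Subtype.val ⁻¹' (O ∩ (V : Set X)))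
      ((hO.inter V.2).preimage continuous_subtype_val) ⟨?_, hxV⟩).trans ?_
    · have : x' ∈ (Subtype.val ⁻¹' O : Set S) := hO'.ge fun h => by
        obtain ⟨C', hC', hx'⟩ := Set.mem_iUnion₂.1 h
        exact hC'.2 hx'
      exact this
    rw [← dim_image IsEmbedding.subtypeVal, Subtype.image_preimage_coe]
    refine dim_inter_le f hZ (hO.inter V.2) y fun w hwZ hw hwy => ?_
    obtain ⟨m', hm'Z, hm'y, hm'x, hm'w⟩ := key w hwZ hw hwy
    exact (fdim_mono f hm'w (hm'y.trans hwy.symm)).trans (hall m' hm'Z hm'y hm'x)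
  · refine le_localDim fun O' hO' hxO' => ?_
    obtain ⟨O'', hO'', rfl⟩ := isOpen_induced_iff.1 hO'
    rw [← (hfn (m C).1).1, ← dim_image IsEmbedding.subtypeVal (Subtype.val ⁻¹' O''), Subtype.image_preimage_coe]
    exact fdim_le_dim_inter f hZ hO'' y _ (m C).2.1.1 (hmx.mem_open hO'' hxO') (m C).2.1.2

/-- The local dimension of the fibre through a point as that of a subset. -/
theorem fibreDimAt_eq (x : X) :
    FlatMor.fibreDimAt f x = FlatMor.localDim ↥((Set.univ : Set X) ∩ f.base ⁻¹' {f.base x}) ⟨x, trivial, rfl⟩ := by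
  let e : ↥(f.fiber (f.base x)) ≃ₜ ↥((Set.univ : Set X) ∩ f.base ⁻¹' {f.base x}) :=
    (f.fiberHomeo (f.base x)).trans (Homeomorph.setCongr (Set.univ_inter _).symm)
  refine (localDim_homeo e (f.asFiber x)).trans (congrArg _ ?_)
  exact Subtype.ext (f.fiberι_asFiber x)

theorem exists_fibreDimAt_eq [LocallyOfFiniteType f] (x : X) :
    ∃ n : ℕ, FlatMor.fibreDimAt f x = n ∧
      (∃ w, f.base w = f.base x ∧ w ⤳ x ∧ fdim f w = n) ∧
      ∀ w, f.base w = f.base x → w ⤳ x → fdim f w ≤ n := by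
  obtain ⟨n, h, ⟨w, -, hw⟩, hall⟩ := exists_localDim_eq f isClosed_univ (f.base x) x ⟨trivial, rfl⟩
  exact ⟨n, (fibreDimAt_eq f x).trans h, ⟨w, hw⟩, fun w hw hwx => hall w trivial hw hwx⟩

theorem fibreDimAt_of_maximal [LocallyOfFiniteType f] (x : X)
    (hmax : ∀ x' : X, f.base x' = f.base x → x ∈ closure {x'} → x' = x) :
    FlatMor.fibreDimAt f x = fdim f x := by
  obtain ⟨n, hn, ⟨w, hw, hwx, hwn⟩, -⟩ := exists_fibreDimAt_eq f x
  obtain rfl := hmax w hw (specializes_iff_mem_closure.1 hwx)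
  rw [hn, hwn]

end Groth.Agent.FibreDim
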