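import Groth.Agent.DimTrdeg.Basic
import Mathlib

/-!
# Quasi-finite maps to affine space and transcendence degrees
-/

set_option autoImplicit false

universe u

open TensorProduct

namespace Groth.Agent.FibreDim

open MvPolynomial (X)

variable {A B : Type u} [CommRing A] [CommRing B] [Algebra A B] {n : ℕ}

/-- `φ : A[T₁,…,Tₙ] → B` is quasi-finite at `q`. -/
def IsQFAt (φ : MvPolynomial (Fin n) A →ₐ[A] B) (q : Ideal B) [q.IsPrime] : Prop :=
  φ.toRingHom.QuasiFiniteAt q

/-- Over domains a map quasi-finite somewhere bounds the transcendence degree. -/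
theorem trdeg_of_isQFAt [IsDomain A] [IsDomain B] [FaithfulSMul A B] [Algebra.FiniteType A B]
    (φ : MvPolynomial (Fin n) A →ₐ[A] B) (q : Ideal B) [q.IsPrime] (h : IsQFAt φ q) :
    Algebra.trdeg A B ≤ n ∧ (Algebra.trdeg A B = n ↔ Function.Injective φ) := by
  letI : Algebra (MvPolynomial (Fin n) A) B := φ.toRingHom.toAlgebra
  haveI : IsScalarTower A (MvPolynomial (Fin n) A) B :=
    IsScalarTower.of_algebraMap_eq fun a => (φ.commutes a).symm
  haveI : Algebra.FiniteType (MvPolynomial (Fin n) A) B := Algebra.FiniteType.of_restrictScalars_finiteType A _ _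
  haveI : Algebra.QuasiFiniteAt (MvPolynomial (Fin n) A) q := h
  let x : Fin n → B := fun i => φ (X i)
  have hx : φ = MvPolynomial.aeval x := MvPolynomial.aeval_unique φ
  let C := Algebra.adjoin A (Set.range x)
  have hrange : φ.range = C := by rw [hx, ← Algebra.adjoin_range_eq_range_aeval]
  haveI halg : Algebra.IsAlgebraic C B := by
    obtain ⟨r, hr, hrint, hall⟩ := Algebra.zariskisMainProperty_iff.1
      (Algebra.ZariskisMainProperty.of_finiteType (R := MvPolynomial (Fin n) A) q)
    have hr0 : r ≠ 0 := fun h0 => hr (h0 ▸ q.zero_mem)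
    let ψ : MvPolynomial (Fin n) A →+* C := φ.toRingHom.codRestrict C.toSubring fun p =>
      hrange.le ⟨p, rfl⟩
    have hmap : ∀ z : B, IsIntegral (MvPolynomial (Fin n) A) z → IsAlgebraic C z := by
      intro z hz
      refine (IsIntegral.isAlgebraic (R := C) ?_)
      exact hz.map_of_comp_eq ψ (RingHom.id B) (RingHom.ext fun p => rfl)
    haveI : Nontrivial C := inferInstance
    refine ⟨fun z => ?_⟩
    obtain ⟨m, hm⟩ := hall z
    refine IsAlgebraic.of_mul ?_ (hmap _ (hrint.pow m)) (hmap _ hm)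
    exact mem_nonZeroDivisors_of_ne_zero (pow_ne_zero _ hr0)
  have hcard : Cardinal.mk (Set.range x) ≤ n := by
    have := Cardinal.mk_range_le_lift (f := x)
    simpa using this
  refine ⟨(Algebra.IsAlgebraic.trdeg_le_cardinalMk A (Set.range x)).trans hcard, fun hn => ?_, fun hi => ?_⟩
  · have := Algebra.IsAlgebraic.isTranscendenceBasis_of_lift_le_trdeg_of_finite A x (by simp [hn])
    rw [hx]
    exact this.1
  · have hind : AlgebraicIndependent A x := by
      rw [algebraicIndependent_iff_injective_aeval, ← hx]; exact hi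
    have := (hind.isTranscendenceBasis_iff_isAlgebraic).2 halg
    simpa using this.lift_cardinalMk_eq_trdeg.symm

/-- Noether normalisation of a fibre, lifted. -/
theorem exists_isQFAt [Algebra.FiniteType A B] (p : Ideal A) [p.IsPrime] [Nontrivial (p.Fiber B)] :
    ∃ (n : ℕ) (φ : MvPolynomial (Fin n) A →ₐ[A] B), ringKrullDim (p.Fiber B) = n ∧
      ∀ (q : Ideal B) [q.IsPrime], q.comap (algebraMap A B) = p → IsQFAt φ q := by
  classical
  obtain ⟨n, ψ, hψi, hψf⟩ := exists_finite_inj_algHom_of_fg p.ResidueField (p.Fiber B)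
  choose r hr b hb using fun i => Ideal.Fiber.exists_smul_eq_one_tmul p (ψ (X i))
  refine ⟨n, MvPolynomial.aeval b, ?_, fun q _ hq => ?_⟩
  · letI := ψ.toRingHom.toAlgebra
    haveI : Algebra.IsIntegral (MvPolynomial (Fin n) p.ResidueField) (p.Fiber B) := ⟨hψf.to_isIntegral⟩
    rw [DimTrdeg.ringKrullDim_eq_of_isIntegral (MvPolynomial (Fin n) p.ResidueField) (p.Fiber B) hψi,
      MvPolynomial.ringKrullDim_of_isNoetherianRing, ringKrullDim_eq_zero_of_field]
    simp
  let φ : MvPolynomial (Fin n) A →ₐ[A] B := MvPolynomial.aeval b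
  let κ := p.ResidueField
  let ψ' : MvPolynomial (Fin n) κ →ₐ[κ] p.Fiber B := MvPolynomial.aeval fun i => 1 ⊗ₜ[A] b i
  have hψ' : ψ'.toRingHom.Finite := by
    let σ : MvPolynomial (Fin n) κ →ₐ[κ] MvPolynomial (Fin n) κ :=
      MvPolynomial.aeval fun i => algebraMap A κ (r i) • X i
    have hσ : ψ' = ψ.comp σ := MvPolynomial.algHom_ext fun i => by
      simp [ψ', σ, ← hb, algebraMap_smul]
      exact (ψ.toLinearMap.map_smul_of_tower (r i) (X i)).symm
    have hu : ∀ i, algebraMap A κ (r i) ≠ 0 := fun i => by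
      rw [Ne, Ideal.algebraMap_residueField_eq_zero]; exact hr i
    have hσs : Function.Surjective σ := by
      let τ : MvPolynomial (Fin n) κ →ₐ[κ] MvPolynomial (Fin n) κ :=
        MvPolynomial.aeval fun i => (algebraMap A κ (r i))⁻¹ • X i
      have hστ : σ.comp τ = AlgHom.id κ _ := MvPolynomial.algHom_ext fun i => by
        simp only [σ, τ, AlgHom.comp_apply, MvPolynomial.aeval_X, map_smul, smul_smul,
          inv_mul_cancel₀ (hu i), one_smul, AlgHom.id_apply]
      exact fun z => ⟨τ z, AlgHom.congr_fun hστ z⟩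
    rw [hσ]
    exact hψf.comp (RingHom.Finite.of_surjective σ.toRingHom hσs)
  letI : Algebra (MvPolynomial (Fin n) A) B := φ.toRingHom.toAlgebra
  haveI : IsScalarTower A (MvPolynomial (Fin n) A) B :=
    IsScalarTower.of_algebraMap_eq fun a => (φ.commutes a).symm
  haveI : Algebra.FiniteType (MvPolynomial (Fin n) A) B := Algebra.FiniteType.of_restrictScalars_finiteType A _ _
  letI := ψ'.toRingHom.toAlgebra
  haveI : Module.Finite (MvPolynomial (Fin n) κ) (p.Fiber B) := hψ'
  haveI : Algebra.IsIntegral (MvPolynomial (Fin n) κ) (p.Fiber B) := Algebra.IsIntegral.of_finite _ _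
  let inc : B →+* p.Fiber B := Algebra.TensorProduct.includeRight.toRingHom
  let m : MvPolynomial (Fin n) A →+* MvPolynomial (Fin n) κ := MvPolynomial.map (algebraMap A κ)
  have hcomm : (algebraMap (MvPolynomial (Fin n) κ) (p.Fiber B)).comp m = inc.comp φ.toRingHom := by
    refine MvPolynomial.ringHom_ext (fun a => ?_) (fun i => ?_)
    · simp only [RingHom.comp_apply, m, MvPolynomial.map_C, RingHom.algebraMap_toAlgebra, φ,
        AlgHom.toRingHom_eq_coe, RingHom.coe_coe, MvPolynomial.aeval_C, inc, ψ']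
      exact (IsScalarTower.algebraMap_apply A κ (p.Fiber B) a).symm.trans
        (Algebra.TensorProduct.includeRight.commutes a).symm
    · simp [RingHom.algebraMap_toAlgebra, ψ', φ, inc, m]
  refine Algebra.QuasiFiniteAt.of_isOpen_singleton_fiber ⟨q, inferInstance⟩ ?_
  let P : PrimeSpectrum (MvPolynomial (Fin n) A) := ⟨q.comap φ.toRingHom, inferInstance⟩
  let S := PrimeSpectrum.comap (algebraMap (MvPolynomial (Fin n) A) B) ⁻¹' {P}
  have hover : ∀ z : S, z.1.asIdeal.comap (algebraMap A B) = p := by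
    rintro ⟨z, hz⟩
    have h1 : z.asIdeal.comap φ.toRingHom = q.comap φ.toRingHom := congrArg PrimeSpectrum.asIdeal hz
    rw [IsScalarTower.algebraMap_eq A (MvPolynomial (Fin n) A) B, ← Ideal.comap_comap]
    change (z.asIdeal.comap φ.toRingHom).comap _ = p
    rw [h1, ← hq, IsScalarTower.algebraMap_eq A (MvPolynomial (Fin n) A) B, ← Ideal.comap_comap]
    rfl
  let pp : PrimeSpectrum A := ⟨p, inferInstance⟩
  let L : S → PrimeSpectrum (p.Fiber B) := fun z =>
    PrimeSpectrum.preimageOrderIsoFiber A B pp ⟨z.1, PrimeSpectrum.ext (hover z)⟩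
  have hL : ∀ z : S, (L z).asIdeal.comap inc = z.1.asIdeal := fun z =>
    congrArg (fun w : ↥(PrimeSpectrum.comap (algebraMap A B) ⁻¹' {pp}) => w.1.asIdeal)
      ((PrimeSpectrum.preimageOrderIsoFiber A B pp).symm_apply_apply ⟨z.1, PrimeSpectrum.ext (hover z)⟩)
  have hP : ∀ z : S, ((L z).asIdeal.comap (algebraMap (MvPolynomial (Fin n) κ) (p.Fiber B))).comap m = P.asIdeal := fun z => by
    rw [Ideal.comap_comap, hcomm, ← Ideal.comap_comap, hL]
    exact congrArg PrimeSpectrum.asIdeal z.2
  have hm : ∀ J : Ideal (MvPolynomial (Fin n) κ), J.IsPrime → ∀ w : MvPolynomial (Fin n) κ,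
      ∃ (s : κ) (w' : MvPolynomial (Fin n) A), s ≠ 0 ∧ MvPolynomial.C s * w = m w' := by
    intro _ _ w
    induction w using MvPolynomial.induction_on with
    | C a =>
      obtain ⟨c, d, e⟩ := IsFractionRing.div_surjective (A := A ⧸ p) a
      obtain ⟨c, rfl⟩ := Ideal.Quotient.mk_surjective c
      obtain ⟨d, rfl⟩ := Ideal.Quotient.mk_surjective d
      refine ⟨algebraMap A κ d, MvPolynomial.C c, ?_, ?_⟩
      · intro hd
        exact nonZeroDivisors.ne_zero e.1 (Ideal.Quotient.eq_zero_iff_mem.2 (Ideal.algebraMap_residueField_eq_zero.1 hd))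
      · simp only [m, MvPolynomial.map_C, ← map_mul]
        congr 1
        rw [← e.2]
        have hd : algebraMap A κ d ≠ 0 := fun hd =>
          nonZeroDivisors.ne_zero e.1 (Ideal.Quotient.eq_zero_iff_mem.2 (Ideal.algebraMap_residueField_eq_zero.1 hd))
        change algebraMap A κ d * (algebraMap A κ c / algebraMap A κ d) = algebraMap A κ c
        rw [mul_div_cancel₀ _ hd]
    | add u v hu hv =>
      obtain ⟨s, u', hs, hu'⟩ := hu
      obtain ⟨t, v', ht, hv'⟩ := hv
      obtain ⟨c, d, e⟩ := IsFractionRing.div_surjective (A := A ⧸ p) s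
      obtain ⟨c, rfl⟩ := Ideal.Quotient.mk_surjective c
      obtain ⟨d, rfl⟩ := Ideal.Quotient.mk_surjective d
      obtain ⟨c', d', e'⟩ := IsFractionRing.div_surjective (A := A ⧸ p) t
      obtain ⟨c', rfl⟩ := Ideal.Quotient.mk_surjective c'
      obtain ⟨d', rfl⟩ := Ideal.Quotient.mk_surjective d'
      have hd : algebraMap A κ d ≠ 0 := fun hd =>
        nonZeroDivisors.ne_zero e.1 (Ideal.Quotient.eq_zero_iff_mem.2 (Ideal.algebraMap_residueField_eq_zero.1 hd))
      have hd' : algebraMap A κ d' ≠ 0 := fun hd =>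
        nonZeroDivisors.ne_zero e'.1 (Ideal.Quotient.eq_zero_iff_mem.2 (Ideal.algebraMap_residueField_eq_zero.1 hd))
      refine ⟨algebraMap A κ c * algebraMap A κ c', MvPolynomial.C (d * c') * u' + MvPolynomial.C (d' * c) * v',
        ?_, ?_⟩
      · have h1 : algebraMap A κ c = s * algebraMap A κ d := by
          rw [← e.2]; exact (div_mul_cancel₀ _ hd).symm
        have h2 : algebraMap A κ c' = t * algebraMap A κ d' := by
          rw [← e'.2]; exact (div_mul_cancel₀ _ hd').symm
        rw [h1, h2]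
        exact mul_ne_zero (mul_ne_zero hs hd) (mul_ne_zero ht hd')
      · have h1 : algebraMap A κ c = s * algebraMap A κ d := by
          rw [← e.2]; exact (div_mul_cancel₀ _ hd).symm
        have h2 : algebraMap A κ c' = t * algebraMap A κ d' := by
          rw [← e'.2]; exact (div_mul_cancel₀ _ hd').symm
        simp only [map_add, map_mul, ← hu', ← hv', h1, h2, m, MvPolynomial.map_C]
        ring
    | mul_X u i hu =>
      obtain ⟨s, u', hs, hu'⟩ := hu
      exact ⟨s, u' * X i, hs, by rw [← mul_assoc, hu', map_mul, MvPolynomial.map_X]⟩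
  have hJ : ∀ z z' : S, (L z).asIdeal.comap (algebraMap (MvPolynomial (Fin n) κ) (p.Fiber B)) =
      (L z').asIdeal.comap (algebraMap (MvPolynomial (Fin n) κ) (p.Fiber B)) := by
    intro z z'
    have key : ∀ J : Ideal (MvPolynomial (Fin n) κ), J.IsPrime → ∀ w, w ∈ J ↔
        ∀ (s : κ) (w' : MvPolynomial (Fin n) A), s ≠ 0 → MvPolynomial.C s * w = m w' → w' ∈ J.comap m := by
      intro J hJ w
      refine ⟨fun hw s w' _ e => ?_, fun h => ?_⟩
      · rw [Ideal.mem_comap, ← e]; exact J.mul_mem_left _ hw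
      · obtain ⟨s, w', hs, e⟩ := hm J hJ w
        have h1 : MvPolynomial.C s * w ∈ J := by rw [e]; exact h s w' hs e
        refine (hJ.mem_or_mem h1).resolve_left fun hc => hJ.ne_top ?_
        exact Ideal.eq_top_of_isUnit_mem _ hc ((isUnit_iff_ne_zero.2 hs).map MvPolynomial.C)
    ext w
    rw [key _ inferInstance, key _ inferInstance, hP, hP]
  have hinj : Function.Injective L := fun z z' h => Subtype.ext (PrimeSpectrum.ext (by rw [← hL, h, hL]))
  haveI : Finite S := by
    haveI : Algebra.QuasiFinite (MvPolynomial (Fin n) κ) (p.Fiber B) := inferInstance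
    let z₀ : S := ⟨⟨q, inferInstance⟩, rfl⟩
    have hfin : (PrimeSpectrum.comap (algebraMap (MvPolynomial (Fin n) κ) (p.Fiber B)) ⁻¹'
        {PrimeSpectrum.comap (algebraMap _ _) (L z₀)}).Finite :=
      Algebra.QuasiFinite.finite_comap_preimage_singleton _
    haveI := hfin.to_subtype
    exact Finite.of_injective (β := ↥(PrimeSpectrum.comap (algebraMap (MvPolynomial (Fin n) κ) (p.Fiber B)) ⁻¹'
        {PrimeSpectrum.comap (algebraMap _ _) (L z₀)}))
      (fun z => ⟨L z, PrimeSpectrum.ext (hJ z z₀)⟩) fun z z' h => hinj (congrArg Subtype.val h)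
  haveI : T1Space S := t1Space_iff_specializes_imp_eq.2 fun z z' h => by
    have hle : z.1.asIdeal ≤ z'.1.asIdeal :=
      (PrimeSpectrum.le_iff_specializes z.1 z'.1).2 (h.map continuous_subtype_val)
    refine hinj (PrimeSpectrum.ext ?_)
    by_contra hne
    have hlt : (L z).asIdeal < (L z').asIdeal := lt_of_le_of_ne
      ((PrimeSpectrum.preimageOrderIsoFiber A B pp).monotone hle) hne
    exact (Ideal.IsIntegral.comap_lt_comap (R := MvPolynomial (Fin n) κ) hlt).ne (hJ z z')
  exact isOpen_discrete (α := S) _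

end Groth.Agent.FibreDim
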