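import Groth.Agent.FibreDim.Topo
import Groth.Agent.FibreDim.Alg

/-!
# The dimension of the closure of a point in its fibre
-/

set_option autoImplicit false

universe u

open CategoryTheory AlgebraicGeometry TopologicalSpace Topology

namespace Groth.Agent.FibreDim

variable {X Y : Scheme.{u}} (f : X ⟶ Y)

/-- The dimension of the closure of `w` in the fibre of `f` through `w`. -/
noncomputable def fdim (w : X) : WithBot ℕ∞ :=
  topologicalKrullDim ↥(closure ({w} : Set X) ∩ f.base ⁻¹' {f.base w})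

theorem fdim_mono {w w' : X} (h : w ⤳ w') (hf : f.base w = f.base w') : fdim f w' ≤ fdim f w := by
  refine dim_mono fun z hz => ⟨?_, hf ▸ hz.2⟩
  exact closure_minimal (Set.singleton_subset_iff.2 h.mem_closure) isClosed_closure hz.1

/-- Transcendence degrees along compatible isomorphisms. -/
theorem trdeg_eq_of_ringEquiv {R S A B : Type u} [CommRing R] [CommRing S] [CommRing A] [CommRing B]
    [Algebra R A] [Algebra S B] [Nontrivial R] (e : R ≃+* S) (E : A ≃+* B)
    (h : ∀ r, algebraMap S B (e r) = E (algebraMap R A r)) : Algebra.trdeg R A = Algebra.trdeg S B := by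
  haveI : Nontrivial S := e.injective.nontrivial
  refine le_antisymm (ciSup_le' fun s => ?_) (ciSup_le' fun s => ?_)
  · exact (AlgebraicIndependent.ringHom_of_comp_eq e.toRingHom E.toRingHom s.2 e.surjective E.injective
      (RingHom.ext h)).cardinalMk_le_trdeg
  · exact (AlgebraicIndependent.ringHom_of_comp_eq e.symm.toRingHom E.symm.toRingHom s.2 e.symm.surjective
      E.symm.injective (RingHom.ext fun r => E.injective (by
        simp only [RingHom.comp_apply, RingEquiv.toRingHom_eq_coe, RingHom.coe_coe, RingEquiv.apply_symm_apply]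
        rw [← h, RingEquiv.apply_symm_apply]))).cardinalMk_le_trdeg

section localisation

variable {A' B' : Type u} [CommRing A'] [IsDomain A'] [CommRing B'] [IsDomain B'] [Algebra A' B']
  [FaithfulSMul A' B'] [Algebra.FiniteType A' B']

/-- The generic fibre of an extension of domains of finite type. -/
theorem exists_dim_generic : ∃ n : ℕ, Algebra.trdeg A' B' = n ∧
    topologicalKrullDim ↥(PrimeSpectrum.comap (algebraMap A' B') ⁻¹' {⊥}) = n := by
  let K := FractionRing A'
  let M := Algebra.algebraMapSubmonoid B' (nonZeroDivisors A')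
  let L := Localization M
  have hM : M ≤ nonZeroDivisors B' := by
    rintro _ ⟨a, ha, rfl⟩
    exact mem_nonZeroDivisors_of_ne_zero
      ((map_ne_zero_iff _ (FaithfulSMul.algebraMap_injective A' B')).2 (nonZeroDivisors.ne_zero ha))
  haveI : IsDomain L := IsLocalization.isDomain_localization hM
  letI : Algebra K L := localizationAlgebra (nonZeroDivisors A') B'
  haveI : IsScalarTower A' K L :=
    IsScalarTower.of_algebraMap_eq fun a => ((IsLocalization.map_eq _ a).trans
      (IsScalarTower.algebraMap_apply A' B' L a).symm).symm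
  haveI : Algebra.FiniteType K L := by
    obtain ⟨s, hs⟩ := (inferInstance : Algebra.FiniteType A' B').out
    classical
    refine ⟨⟨s.image (algebraMap B' L), ?_⟩⟩
    rw [eq_top_iff]
    intro z _
    obtain ⟨b, ⟨_, a, ha, rfl⟩, rfl⟩ := IsLocalization.exists_mk'_eq M z
    have hb : ∀ b : B', algebraMap B' L b ∈ Algebra.adjoin K ((s.image (algebraMap B' L) : Finset L) : Set L) := by
      intro b
      have h1 : b ∈ Algebra.adjoin A' (s : Set B') := hs ▸ trivial
      induction h1 using Algebra.adjoin_induction with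
      | mem x hx => exact Algebra.subset_adjoin (Finset.mem_image_of_mem _ hx)
      | algebraMap r =>
        rw [← IsScalarTower.algebraMap_apply A' B' L, IsScalarTower.algebraMap_apply A' K L]
        exact Subalgebra.algebraMap_mem _ _
      | add x y _ _ hx hy => rw [map_add]; exact add_mem hx hy
      | mul x y _ _ hx hy => rw [map_mul]; exact mul_mem hx hy
    have ha' : algebraMap A' K a ≠ 0 :=
      (map_ne_zero_iff _ (IsFractionRing.injective A' K)).2 (nonZeroDivisors.ne_zero ha)
    have e : IsLocalization.mk' L b (⟨algebraMap A' B' a, a, ha, rfl⟩ : M) =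
        algebraMap K L (algebraMap A' K a)⁻¹ * algebraMap B' L b := by
      rw [IsLocalization.mk'_eq_iff_eq_mul]
      change _ = _ * algebraMap B' L (algebraMap A' B' a)
      rw [← IsScalarTower.algebraMap_apply A' B' L, IsScalarTower.algebraMap_apply A' K L,
        mul_right_comm, ← map_mul, inv_mul_cancel₀ ha', map_one, one_mul]
    rw [e]
    exact mul_mem (Subalgebra.algebraMap_mem _ _) (hb b)
  obtain ⟨n, hn, hdim⟩ := DimTrdeg.exists_trdeg_eq_ringKrullDim K L
  refine ⟨n, ?_, ?_⟩
  · haveI : FaithfulSMul B' L := (faithfulSMul_iff_algebraMap_injective B' L).2 (IsLocalization.injective L hM)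
    haveI : FaithfulSMul A' L := FaithfulSMul.trans A' B' L
    haveI : Algebra.IsAlgebraic B' L := IsLocalization.isAlgebraic L M
    haveI : Algebra.IsAlgebraic A' K := IsLocalization.isAlgebraic K (nonZeroDivisors A')
    rw [← DimTrdeg.trdeg_eq_of_isAlgebraic A' B' L, ← hn, ← trdeg_add_eq A' K (A := L),
      trdeg_eq_zero (R := A') (A := K), zero_add]
  · rw [← hdim, ← PrimeSpectrum.topologicalKrullDim_eq_ringKrullDim]
    have hr : Set.range (PrimeSpectrum.comap (algebraMap B' L)) =
        PrimeSpectrum.comap (algebraMap A' B') ⁻¹' {⊥} := by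
      rw [PrimeSpectrum.localization_comap_range L M]
      ext z
      simp only [Set.mem_ofPred_eq, Set.mem_preimage, Set.mem_singleton_iff]
      constructor
      · intro h
        refine PrimeSpectrum.ext (eq_bot_iff.2 fun a ha => ?_)
        by_contra ha0
        exact Set.disjoint_left.1 h (⟨a, mem_nonZeroDivisors_of_ne_zero ha0, rfl⟩ : algebraMap A' B' a ∈ M) ha
      · intro h
        refine Set.disjoint_left.2 ?_
        rintro _ ⟨a, ha, rfl⟩ haz
        have : a ∈ (PrimeSpectrum.comap (algebraMap A' B') z).asIdeal := haz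
        rw [h] at this
        exact nonZeroDivisors.ne_zero ha this
    rw [← hr]
    exact (dim_homeo (PrimeSpectrum.localization_comap_isEmbedding L M).toHomeomorph).symm

/-- The generic fibre dimension is unchanged on principal open subsets. -/
theorem trdeg_away (g : B') (hg : g ≠ 0) (L : Type u) [CommRing L] [IsDomain L] [Algebra B' L]
    [IsLocalization.Away g L] [Algebra A' L] [IsScalarTower A' B' L] :
    Algebra.trdeg A' L = Algebra.trdeg A' B' := by
  have hM : Submonoid.powers g ≤ nonZeroDivisors B' :=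
    Submonoid.powers_le.2 (mem_nonZeroDivisors_of_ne_zero hg)
  haveI : FaithfulSMul B' L := (faithfulSMul_iff_algebraMap_injective B' L).2 (IsLocalization.injective L hM)
  haveI : Algebra.IsAlgebraic B' L := IsLocalization.isAlgebraic L (Submonoid.powers g)
  exact DimTrdeg.trdeg_eq_of_isAlgebraic A' B' L

end localisation

variable {U : Y.Opens} (hU : IsAffineOpen U) {V : X.Opens} (hV : IsAffineOpen V) (hVU : V ≤ f ⁻¹ᵁ U)

include hU in
theorem primeIdeal_comap (w : X) (hw : w ∈ V) (z : X) (hz : z ∈ V) :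
    f.base z = f.base w ↔
      (hV.primeIdealOf ⟨z, hz⟩).asIdeal.comap (f.appLE U V hVU).hom =
        (hV.primeIdealOf ⟨w, hw⟩).asIdeal.comap (f.appLE U V hVU).hom := by
  have key : ∀ (a : X) (ha : a ∈ V),
      hU.fromSpec (Spec.map (f.appLE U V hVU) (hV.primeIdealOf ⟨a, ha⟩)) = f.base a := fun a ha => by
    rw [← Scheme.Hom.comp_apply, IsAffineOpen.SpecMap_appLE_fromSpec f hU hV hVU, Scheme.Hom.comp_apply,
      hV.fromSpec_primeIdealOf]
  rw [← key z hz, ← key w hw, hU.fromSpec.isOpenEmbedding.injective.eq_iff]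
  exact PrimeSpectrum.ext_iff

include hU in
/-- Chart computation of the dimension of the part in `V` of the closure of `w` in its fibre. -/
theorem exists_dim_chart [LocallyOfFiniteType f] (w : X) (hw : w ∈ V) :
    letI := (f.appLE U V hVU).hom.toAlgebra
    ∃ n : ℕ, Algebra.trdeg (Γ(Y, U) ⧸ (hV.primeIdealOf ⟨w, hw⟩).asIdeal.under Γ(Y, U))
        (Γ(X, V) ⧸ (hV.primeIdealOf ⟨w, hw⟩).asIdeal) = n ∧
      topologicalKrullDim ↥(closure ({w} : Set X) ∩ f.base ⁻¹' {f.base w} ∩ V) = n := by
  letI := (f.appLE U V hVU).hom.toAlgebra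
  set q := (hV.primeIdealOf ⟨w, hw⟩).asIdeal with hq
  let A' := Γ(Y, U) ⧸ q.under Γ(Y, U)
  let B' := Γ(X, V) ⧸ q
  haveI : Algebra.FiniteType Γ(Y, U) Γ(X, V) :=
    RingHom.finiteType_algebraMap.1 (f.finiteType_appLE hU hV hVU)
  haveI : Algebra.FiniteType Γ(Y, U) B' :=
    Algebra.FiniteType.of_surjective (Ideal.Quotient.mkₐ Γ(Y, U) q) Ideal.Quotient.mk_surjective
  haveI : Algebra.FiniteType A' B' := Algebra.FiniteType.of_restrictScalars_finiteType Γ(Y, U) A' B'
  haveI : FaithfulSMul A' B' := (faithfulSMul_iff_algebraMap_injective A' B').2 (Ideal.quotientMap_injective' le_rfl)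
  obtain ⟨n, hn, hdim⟩ := exists_dim_generic (A' := A') (B' := B')
  refine ⟨n, hn, ?_⟩
  rw [← hdim]
  let j : PrimeSpectrum B' → X := fun z => hV.fromSpec (PrimeSpectrum.comap (Ideal.Quotient.mk q) z)
  have hj : IsEmbedding j := hV.fromSpec.isOpenEmbedding.isEmbedding.comp
    (PrimeSpectrum.isClosedEmbedding_comap_of_surjective _ _ Ideal.Quotient.mk_surjective).isEmbedding
  rw [← dim_image hj]
  refine congrArg (fun s : Set X => topologicalKrullDim ↥s) ?_
  ext z
  constructor
  · rintro ⟨⟨hz, hfz⟩, hzV⟩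
    have hle : q ≤ (hV.primeIdealOf ⟨z, hzV⟩).asIdeal := by
      refine (PrimeSpectrum.le_iff_specializes (hV.primeIdealOf ⟨w, hw⟩) (hV.primeIdealOf ⟨z, hzV⟩)).2 ?_
      refine hV.fromSpec.isOpenEmbedding.toIsInducing.specializes_iff.1 ?_
      rw [hV.fromSpec_primeIdealOf, hV.fromSpec_primeIdealOf]
      exact specializes_iff_mem_closure.2 hz
    have hr : hV.primeIdealOf ⟨z, hzV⟩ ∈ Set.range (PrimeSpectrum.comap (Ideal.Quotient.mk q)) := by
      rw [range_comap_of_surjective _ _ Ideal.Quotient.mk_surjective, Ideal.mk_ker]; exact hle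
    obtain ⟨t, ht⟩ := hr
    refine ⟨t, ?_, by simp only [j, ht, hV.fromSpec_primeIdealOf]⟩
    refine PrimeSpectrum.ext (Ideal.comap_injective_of_surjective _ Ideal.Quotient.mk_surjective ?_)
    have e := (primeIdeal_comap f hU hV hVU w hw z hzV).1 hfz
    rw [← ht] at e
    change (t.asIdeal.comap (algebraMap A' B')).comap (Ideal.Quotient.mk _) = Ideal.comap _ ⊥
    rw [← RingHom.ker_eq_comap_bot, Ideal.mk_ker, Ideal.comap_comap]
    change t.asIdeal.comap ((Ideal.Quotient.mk q).comp (f.appLE U V hVU).hom) = _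
    rw [← Ideal.comap_comap]
    exact e
  · rintro ⟨t, ht, rfl⟩
    have hV' : j t ∈ V := hV.range_fromSpec.le ⟨_, rfl⟩
    have e : hV.primeIdealOf ⟨j t, hV'⟩ = PrimeSpectrum.comap (Ideal.Quotient.mk q) t :=
      hV.fromSpec.isOpenEmbedding.injective (hV.fromSpec_primeIdealOf _)
    refine ⟨⟨?_, ?_⟩, hV'⟩
    · rw [← specializes_iff_mem_closure]
      have hle : q ≤ (PrimeSpectrum.comap (Ideal.Quotient.mk q) t).asIdeal := fun a ha => by
        change Ideal.Quotient.mk q a ∈ t.asIdeal
        rw [Ideal.Quotient.eq_zero_iff_mem.2 ha]; exact zero_mem _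
      have := ((PrimeSpectrum.le_iff_specializes (hV.primeIdealOf ⟨w, hw⟩) _).1 hle).map hV.fromSpec.continuous
      rwa [hV.fromSpec_primeIdealOf] at this
    · refine (primeIdeal_comap f hU hV hVU w hw (j t) hV').2 ?_
      rw [e]
      have h0 := congrArg (fun a : PrimeSpectrum A' => a.asIdeal.comap (Ideal.Quotient.mk _)) ht
      change (t.asIdeal.comap (algebraMap A' B')).comap (Ideal.Quotient.mk _) = Ideal.comap _ ⊥ at h0
      rw [← RingHom.ker_eq_comap_bot, Ideal.mk_ker, Ideal.comap_comap] at h0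
      change (t.asIdeal.comap (Ideal.Quotient.mk q)).comap _ = _
      rw [Ideal.comap_comap]
      exact h0

include hU hV hVU in
/-- The chart computation on principal open subsets. -/
theorem exists_dim_chart_basicOpen [LocallyOfFiniteType f] (w : X) (hw : w ∈ V) :
    ∃ n : ℕ, topologicalKrullDim ↥(closure ({w} : Set X) ∩ f.base ⁻¹' {f.base w} ∩ V) = n ∧
      ∀ g : Γ(X, V), w ∈ X.basicOpen g →
        topologicalKrullDim ↥(closure ({w} : Set X) ∩ f.base ⁻¹' {f.base w} ∩ X.basicOpen g) = n := by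
  letI := (f.appLE U V hVU).hom.toAlgebra
  obtain ⟨n, hn, hdim⟩ := exists_dim_chart f hU hV hVU w hw
  refine ⟨n, hdim, fun g hg => ?_⟩
  obtain ⟨m, hm, hmdim⟩ := exists_dim_chart (V := X.basicOpen g) f hU (hV.basicOpen g)
    ((X.basicOpen_le g).trans hVU) w hg
  rw [hmdim]
  letI := (f.appLE U (X.basicOpen g) ((X.basicOpen_le g).trans hVU)).hom.toAlgebra
  set q := (hV.primeIdealOf ⟨w, hw⟩).asIdeal with hq
  set q' := ((hV.basicOpen g).primeIdealOf ⟨w, hg⟩).asIdeal with hq'
  letI : Algebra Γ(X, V) Γ(X, X.basicOpen g) := (X.presheaf.map (homOfLE (X.basicOpen_le g)).op).hom.toAlgebra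
  haveI := hV.isLocalization_basicOpen g
  haveI : IsScalarTower Γ(Y, U) Γ(X, V) Γ(X, X.basicOpen g) := IsScalarTower.of_algebraMap_eq' <| by
    simp only [RingHom.algebraMap_toAlgebra]
    rw [← CommRingCat.hom_comp, Scheme.Hom.appLE_map]
  have hqq' : q'.under Γ(X, V) = q := by
    have hval : Spec.map (X.presheaf.map (homOfLE (X.basicOpen_le g)).op) ((hV.basicOpen g).primeIdealOf ⟨w, hg⟩) =
        hV.primeIdealOf ⟨w, hw⟩ := by
      apply hV.fromSpec.isOpenEmbedding.injective
      rw [← Scheme.Hom.comp_apply, hV.map_fromSpec (hV.basicOpen g), (hV.basicOpen g).fromSpec_primeIdealOf,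
        hV.fromSpec_primeIdealOf]
    exact congrArg PrimeSpectrum.asIdeal hval
  haveI : q'.LiesOver q := ⟨hqq'.symm⟩
  let B' := Γ(X, V) ⧸ q
  let C' := Γ(X, X.basicOpen g) ⧸ q'
  have hg' : g ∉ q := fun h => by
    have h1 : hV.fromSpec (hV.primeIdealOf ⟨w, hw⟩) ∈ X.basicOpen g := by
      rw [hV.fromSpec_primeIdealOf]; exact hg
    have h2 : hV.primeIdealOf ⟨w, hw⟩ ∈ hV.fromSpec ⁻¹ᵁ X.basicOpen g := h1
    rw [hV.fromSpec_preimage_basicOpen] at h2
    exact h2 h
  haveI : IsLocalization.Away (Ideal.Quotient.mk q g) C' := by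
    have hq'map : q.map (algebraMap Γ(X, V) Γ(X, X.basicOpen g)) = q' := by
      conv_lhs => rw [← hqq']
      exact IsLocalization.map_comap (Submonoid.powers g) _ q'
    have := IsLocalization.of_surjective (R := Γ(X, V)) (R' := B') (S' := C') (Submonoid.powers g)
      Γ(X, X.basicOpen g) (Ideal.Quotient.mk q) Ideal.Quotient.mk_surjective
      (Ideal.Quotient.mk q') Ideal.Quotient.mk_surjective rfl
      (by rw [Ideal.mk_ker, Ideal.mk_ker, hq'map])
    rwa [Submonoid.map_powers] at this
  have hunder : q'.under Γ(Y, U) = q.under Γ(Y, U) := by rw [← hqq', Ideal.under_under]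
  let A' := Γ(Y, U) ⧸ q.under Γ(Y, U)
  haveI : FaithfulSMul A' B' := (faithfulSMul_iff_algebraMap_injective A' B').2 (Ideal.quotientMap_injective' le_rfl)
  haveI : Algebra.FiniteType Γ(Y, U) Γ(X, V) :=
    RingHom.finiteType_algebraMap.1 (f.finiteType_appLE hU hV hVU)
  haveI : Algebra.FiniteType Γ(Y, U) B' :=
    Algebra.FiniteType.of_surjective (Ideal.Quotient.mkₐ Γ(Y, U) q) Ideal.Quotient.mk_surjective
  haveI : Algebra.FiniteType A' B' := Algebra.FiniteType.of_restrictScalars_finiteType Γ(Y, U) A' B'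
  letI : Algebra A' C' := ((algebraMap B' C').comp (algebraMap A' B')).toAlgebra
  haveI : IsScalarTower A' B' C' := IsScalarTower.of_algebraMap_eq fun _ => rfl
  have h1 := trdeg_away (A' := A') (B' := B') (Ideal.Quotient.mk q g)
    (fun h => hg' (Ideal.Quotient.eq_zero_iff_mem.1 h)) C'
  have h2 : Algebra.trdeg A' C' = m := by
    rw [← hm]
    refine trdeg_eq_of_ringEquiv (Ideal.quotEquivOfEq hunder.symm) (RingEquiv.refl C') (fun a => ?_)
    obtain ⟨a, rfl⟩ := Ideal.Quotient.mk_surjective a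
    change Ideal.Quotient.mk q' (algebraMap Γ(Y, U) Γ(X, X.basicOpen g) a) =
      (algebraMap B' C') (Ideal.Quotient.mk q (algebraMap Γ(Y, U) Γ(X, V) a))
    rw [IsScalarTower.algebraMap_apply Γ(Y, U) Γ(X, V) Γ(X, X.basicOpen g)]
    rfl
  exact_mod_cast (h2.symm.trans (h1.trans hn))

/-- The dimension of the closure of a point in its fibre is finite and is seen on every
neighbourhood of the point. -/
theorem exists_fdim [LocallyOfFiniteType f] (w : X) : ∃ n : ℕ, fdim f w = n ∧
    ∀ O : Set X, IsOpen O → w ∈ O →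
      topologicalKrullDim ↥(closure ({w} : Set X) ∩ f.base ⁻¹' {f.base w} ∩ O) = n := by
  obtain ⟨_, ⟨U, hU, rfl⟩, hwU, -⟩ := Y.isBasis_affineOpens.exists_subset_of_mem_open
    (Set.mem_univ (f.base w)) isOpen_univ
  obtain ⟨_, ⟨V, hV, rfl⟩, hwV, hVU : V ≤ f ⁻¹ᵁ U⟩ :=
    X.isBasis_affineOpens.exists_subset_of_mem_open hwU (f ⁻¹ᵁ U).2
  obtain ⟨n, hn, hng⟩ := exists_dim_chart_basicOpen f hU hV hVU w hwV
  have hcharts : ∀ (U' : Y.Opens) (_ : IsAffineOpen U') (V' : X.Opens) (_ : IsAffineOpen V')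
      (_ : V' ≤ f ⁻¹ᵁ U'), w ∈ V' →
      topologicalKrullDim ↥(closure ({w} : Set X) ∩ f.base ⁻¹' {f.base w} ∩ V') = n := by
    intro U' hU' V' hV' hVU' hw'
    obtain ⟨n', hn', hng'⟩ := exists_dim_chart_basicOpen f hU' hV' hVU' w hw'
    obtain ⟨g, g', hgg, hgw⟩ := exists_basicOpen_le_affine_inter hV hV' w ⟨hwV, hw'⟩
    have h1 := hng g hgw
    rw [hgg, hng' g' (hgg ▸ hgw)] at h1
    rw [hn', h1]
  have hle : fdim f w ≤ n := by
    refine dim_le_of_cover fun z => ?_
    obtain ⟨_, ⟨U', hU', rfl⟩, hzU, -⟩ := Y.isBasis_affineOpens.exists_subset_of_mem_open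
      (Set.mem_univ (f.base z.1)) isOpen_univ
    obtain ⟨_, ⟨V', hV', rfl⟩, hzV, hVU' : V' ≤ f ⁻¹ᵁ U'⟩ :=
      X.isBasis_affineOpens.exists_subset_of_mem_open hzU (f ⁻¹ᵁ U').2
    refine ⟨Subtype.val ⁻¹' (V' : Set X), V'.2.preimage continuous_subtype_val, hzV, ?_⟩
    rw [← dim_image IsEmbedding.subtypeVal, Subtype.image_preimage_coe]
    exact (hcharts U' hU' V' hV' hVU' ((specializes_iff_mem_closure.2 z.2.1).mem_open V'.2 hzV)).le
  have hO : ∀ O : Set X, IsOpen O → w ∈ O →
      (n : WithBot ℕ∞) ≤ topologicalKrullDim ↥(closure ({w} : Set X) ∩ f.base ⁻¹' {f.base w} ∩ O) := by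
    intro O hO hwO
    obtain ⟨g, hgO, hgw⟩ := hV.exists_basicOpen_le (V := ⟨O, hO⟩) ⟨w, hwO⟩ hwV
    exact (hng g hgw).symm.le.trans (dim_mono fun z hz => ⟨hz.1, hgO hz.2⟩)
  refine ⟨n, le_antisymm hle ((hO _ isOpen_univ trivial).trans (dim_mono fun z hz => hz.1)),
    fun O hO' hwO => le_antisymm ((dim_mono fun z hz => hz.1).trans hle) (hO O hO' hwO)⟩

end Groth.Agent.FibreDim
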